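/-
Any two systems of parameters are joined by a chain changing one coordinate at a time.
-/
import Mathlib.RingTheory.Ideal.KrullsHeightTheorem
import Mathlib.RingTheory.LocalRing.Basic
import Mathlib.RingTheory.Ideal.MinimalPrime.Noetherian
import Mathlib.Data.Fin.Tuple.Basic

set_option autoImplicit false

namespace GrothLib.SopChain

universe u

open IsLocalRing Relation

variable {A : Type u} [CommRing A] [IsLocalRing A]

/-- Parameters relative to `I`. -/
def Good {n : ℕ} (I : Ideal A) (u : Fin n → A) : Prop :=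
  (∀ i, u i ∈ maximalIdeal A) ∧ maximalIdeal A ≤ (I ⊔ Ideal.span (Set.range u)).radical

/-- One elementary move. -/
def Step {n : ℕ} (I : Ideal A) (u v : Fin n → A) : Prop :=
  Good I u ∧ Good I v ∧ ∃ i, ∀ i', i' ≠ i → u i' = v i'

lemma span_range_cons {n : ℕ} (w : A) (u : Fin n → A) :
    Ideal.span (Set.range (Fin.cons w u : Fin (n + 1) → A)) =
      Ideal.span {w} ⊔ Ideal.span (Set.range u) := by
  rw [Fin.range_cons, Ideal.span_insert]

lemma good_cons_iff {n : ℕ} (I : Ideal A) (w : A) (u : Fin n → A) :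
    Good I (Fin.cons w u : Fin (n + 1) → A) ↔
      w ∈ maximalIdeal A ∧ Good (I ⊔ Ideal.span {w}) u := by
  rw [Good, Good, span_range_cons, sup_assoc, Fin.forall_fin_succ]
  simp only [Fin.cons_zero, Fin.cons_succ]
  tauto

variable [IsNoetherianRing A]

/-- Replacing the first parameter by an element avoiding finitely many primes. -/
lemma le_radical_of_forall_notMem {J : Ideal A} {a w : A} (ham : a ∈ maximalIdeal A)
    (ha : maximalIdeal A ≤ (J ⊔ Ideal.span {a}).radical)
    (hw : ∀ Q ∈ J.minimalPrimes, Q ≠ maximalIdeal A → w ∉ Q) :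
    maximalIdeal A ≤ (J ⊔ Ideal.span {w}).radical := by
  rw [Ideal.radical_eq_sInf (J ⊔ Ideal.span {w})]
  refine le_sInf fun P hP => ?_
  obtain ⟨hJP, hPprime⟩ := hP
  haveI := hPprime
  obtain ⟨Q, hQ, hQP⟩ := Ideal.exists_minimalPrimes_le (le_sup_left.trans hJP)
  have hwP : w ∈ P := hJP (Ideal.mem_sup_right (Ideal.subset_span rfl))
  by_cases hQm : Q = maximalIdeal A
  · exact hQm ▸ hQP
  by_contra hne
  have hPm : P < maximalIdeal A :=
    lt_of_le_not_ge (le_maximalIdeal hPprime.ne_top) hne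
  have hQP' : Q < P := lt_of_le_of_ne hQP fun h => hw Q hQ hQm (h ▸ hwP)
  haveI := hQ.1.1
  let f := Ideal.Quotient.mk Q
  haveI : Nontrivial (A ⧸ Q) := Ideal.Quotient.nontrivial_iff.mpr hQ.1.1.ne_top
  haveI : IsLocalRing (A ⧸ Q) := IsLocalRing.of_surjective' f Ideal.Quotient.mk_surjective
  have hker : ∀ {R : Ideal A}, Q ≤ R → RingHom.ker f ≤ R := fun h => by rwa [Ideal.mk_ker]
  have hmin : (maximalIdeal A).map f ∈ (Ideal.span {f a}).minimalPrimes := by
    haveI := Ideal.map_isPrime_of_surjective Ideal.Quotient.mk_surjective (hker (hQP.trans hPm.le))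
    refine ⟨⟨this, ?_⟩, fun R hR hle => ?_⟩
    · rw [Ideal.span_singleton_le_iff_mem]
      exact Ideal.mem_map_of_mem f ham
    · have h1 : maximalIdeal A ≤ R.comap f := by
        refine ha.trans ((Ideal.IsPrime.radical (hR.1.comap f)).le.trans' (Ideal.radical_mono ?_))
        refine sup_le ((hQ.1.2).trans fun x hx => ?_) (((Ideal.span_singleton_le_iff_mem _).mpr ?_))
        · rw [Ideal.mem_comap, Ideal.Quotient.eq_zero_iff_mem.mpr hx]
          exact R.zero_mem
        · exact hR.2 (Ideal.subset_span rfl)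
      exact Ideal.map_le_iff_le_comap.mpr h1
  haveI := hmin.1.1
  have hht := Ideal.height_le_one_of_isPrincipal_of_mem_minimalPrimes (Ideal.span {f a}) _ hmin
  have h1 : (⊥ : Ideal (A ⧸ Q)) < P.map f := by
    refine bot_lt_iff_ne_bot.mpr fun h => hQP'.not_ge ?_
    rw [Ideal.map_eq_bot_iff_le_ker, Ideal.mk_ker] at h
    exact h
  have h2 : P.map f < (maximalIdeal A).map f := by
    refine lt_of_le_not_ge (Ideal.map_mono hPm.le) fun h => hPm.not_ge ?_
    have h3 := Ideal.comap_mono (f := f) h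
    rwa [Ideal.comap_map_of_surjective _ Ideal.Quotient.mk_surjective,
      Ideal.comap_map_of_surjective _ Ideal.Quotient.mk_surjective, ← RingHom.ker_eq_comap_bot,
      sup_of_le_left (hker hQP), sup_of_le_left (hker (hQP.trans hPm.le))] at h3
  haveI := Ideal.map_isPrime_of_surjective Ideal.Quotient.mk_surjective (hker hQP)
  haveI : (⊥ : Ideal (A ⧸ Q)).IsPrime := Ideal.isPrime_bot
  have h3 := Ideal.height_strict_mono_of_isPrime h1
  have h4 := Ideal.height_strict_mono_of_isPrime h2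
  rw [Ideal.height_bot] at h3
  have : (1 : ℕ∞) ≤ (P.map f).height := Order.one_le_iff_pos.mpr h3
  exact absurd hht (not_le.mpr (this.trans_lt h4))

/-- The chain. -/
theorem reflTransGen_step : ∀ (n : ℕ) (I : Ideal A) (u v : Fin n → A), Good I u → Good I v →
    ReflTransGen (Step I) u v := by
  intro n
  induction n with
  | zero =>
    intro I u v _ _
    rw [Subsingleton.elim u v]
  | succ n ih =>
    intro I u v hu hv
    obtain ⟨u0, u', rfl⟩ : ∃ a b, u = Fin.cons a b := ⟨u 0, Fin.tail u, (Fin.cons_self_tail u).symm⟩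
    obtain ⟨v0, v', rfl⟩ : ∃ a b, v = Fin.cons a b := ⟨v 0, Fin.tail v, (Fin.cons_self_tail v).symm⟩
    let Ju := I ⊔ Ideal.span (Set.range u')
    let Jv := I ⊔ Ideal.span (Set.range v')
    have hfin : ({Q ∈ Ju.minimalPrimes ∪ Jv.minimalPrimes | Q ≠ maximalIdeal A}).Finite :=
      (Ju.finite_minimalPrimes_of_isNoetherianRing.union Jv.finite_minimalPrimes_of_isNoetherianRing).subset
        (fun Q hQ => hQ.1)
    obtain ⟨w, hwm, hw⟩ : ∃ w ∈ maximalIdeal A,
        ∀ Q ∈ Ju.minimalPrimes ∪ Jv.minimalPrimes, Q ≠ maximalIdeal A → w ∉ Q := by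
      by_contra! hcon
      have hsub : (maximalIdeal A : Set A) ⊆ ⋃ Q ∈ (hfin.toFinset : Set (Ideal A)), (Q : Set A) := by
        intro x hx
        obtain ⟨Q, hQ, hQm, hxQ⟩ := hcon x hx
        simp only [Set.mem_iUnion, exists_prop]
        exact ⟨Q, Finset.mem_coe.mpr (hfin.mem_toFinset.mpr ⟨hQ, hQm⟩), hxQ⟩
      obtain ⟨Q, hQ, hle⟩ := (Ideal.subset_union_prime ⊥ ⊥ (f := id) (fun Q hQ _ _ => by
        have h' := hfin.mem_toFinset.mp hQ
        rcases h'.1 with h | h <;> exact h.1.1)).mp hsub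
      rw [hfin.mem_toFinset] at hQ
      have hQprime : Q.IsPrime := by rcases hQ.1 with h | h <;> exact h.1.1
      exact hQ.2 ((le_maximalIdeal hQprime.ne_top).antisymm hle)
    have key : ∀ (a : A) (b : Fin n → A), Good I (Fin.cons a b : Fin (n + 1) → A) →
        (∀ Q ∈ (I ⊔ Ideal.span (Set.range b)).minimalPrimes, Q ≠ maximalIdeal A → w ∉ Q) →
        Good I (Fin.cons w b : Fin (n + 1) → A) := by
      intro a b hab hb
      rw [good_cons_iff] at hab ⊢
      refine ⟨hwm, hab.2.1, ?_⟩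
      rw [sup_right_comm]
      exact le_radical_of_forall_notMem (a := a) hab.1 (by rw [← sup_right_comm]; exact hab.2.2) hb
    have hu1 := key u0 u' hu fun Q hQ => hw Q (Or.inl hQ)
    have hv1 := key v0 v' hv fun Q hQ => hw Q (Or.inr hQ)
    refine (ReflTransGen.single (b := Fin.cons w u') ?_).trans (ReflTransGen.trans (b := Fin.cons w v') ?_
      (ReflTransGen.single ?_))
    · exact ⟨hu, hu1, 0, fun i hi => by
        obtain ⟨i, rfl⟩ := Fin.exists_succ_eq_of_ne_zero hi
        simp⟩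
    · refine ReflTransGen.lift (fun b => (Fin.cons w b : Fin (n + 1) → A)) ?_ _ _
        (ih (I ⊔ Ideal.span {w}) u' v' ((good_cons_iff I w u').mp hu1).2 ((good_cons_iff I w v').mp hv1).2)
      rintro b b' ⟨hb, hb', i, hi⟩
      refine ⟨(good_cons_iff I w b).mpr ⟨hwm, hb⟩, (good_cons_iff I w b').mpr ⟨hwm, hb'⟩, i.succ, ?_⟩
      refine Fin.cases (fun _ => by simp) (fun j hj => ?_)
      simpa using hi j fun h => hj (h ▸ rfl)
    · exact ⟨hv1, hv, 0, fun i hi => by
        obtain ⟨i, rfl⟩ := Fin.exists_succ_eq_of_ne_zero hi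
        simp⟩

/-- A chain as a finite sequence. -/
theorem exists_seq {n : ℕ} {I : Ideal A} {u v : Fin n → A} (hu : Good I u)
    (h : ReflTransGen (Step I) u v) :
    ∃ (m : ℕ) (w : Fin (m + 1) → Fin n → A), w 0 = u ∧ w (Fin.last m) = v ∧ (∀ k, Good I (w k)) ∧
      ∀ k : Fin m, ∃ i, ∀ i', i' ≠ i → w k.castSucc i' = w k.succ i' := by
  induction h with
  | refl => exact ⟨0, fun _ => u, rfl, rfl, fun _ => hu, fun k => k.elim0⟩
  | @tail b c _ hbc ih =>
    obtain ⟨m, w, h0, hl, hg, hs⟩ := ih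
    refine ⟨m + 1, Fin.snoc w c, ?_, Fin.snoc_last _ _, ?_, ?_⟩
    · rw [show (0 : Fin (m + 1 + 1)) = (0 : Fin (m + 1)).castSucc from rfl, Fin.snoc_castSucc, h0]
    · refine Fin.lastCases ?_ (fun k => ?_)
      · rw [Fin.snoc_last]; exact hbc.2.1
      · rw [Fin.snoc_castSucc]; exact hg k
    · refine Fin.lastCases ?_ (fun k => ?_)
      · obtain ⟨i, hi⟩ := hbc.2.2
        refine ⟨i, fun i' hi' => ?_⟩
        rw [Fin.snoc_castSucc, Fin.succ_last, Fin.snoc_last, hl]
        exact hi i' hi'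
      · obtain ⟨i, hi⟩ := hs k
        refine ⟨i, fun i' hi' => ?_⟩
        rw [Fin.snoc_castSucc, ← Fin.castSucc_succ, Fin.snoc_castSucc]
        exact hi i' hi'

end GrothLib.SopChain
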